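import Cfsg.Agent.Lib.CN.Frob
import Cfsg.Agent.S4066
import Cfsg.Agent.EqLemmas

/-
Groups in which every centralizer of an element is a trivial intersection subgroup.

* `CTI.subgroup`, `CTI.of_mulEquiv` : inherited by subgroups and isomorphic groups
* `CTI.isNilpotent_of_central` : with non-trivial centre such a group is nilpotent
* `CTI.isCN` : it is a CN-group
* `CTI.frobenius` : with a non-trivial normal `p`-subgroup it is nilpotent or a Frobenius group with
  cyclic or `C × Q₈` complement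
-/

set_option autoImplicit false
open Cfsg

namespace Cfsg.Agent.CentralizerTI

variable {G : Type*} [Group G]

/-- Every centralizer of an element is a TI subgroup. -/
def CTI (G : Type*) [Group G] : Prop :=
  ∀ x : G, Cfsg.IsTISubset (Subgroup.centralizer ({x} : Set G) : Set G)

theorem CTI.subgroup (h : CTI G) (H : Subgroup G) : CTI H := by
  intro x g hg y hy hy'
  by_contra hy1
  refine hg ?_
  have hmem : ∀ a : H, a ∈ Subgroup.centralizer ({x} : Set H) ↔
      (a : G) ∈ Subgroup.centralizer ({(x : G)} : Set G) := fun a => by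
    rw [Subgroup.mem_centralizer_singleton_iff, Subgroup.mem_centralizer_singleton_iff]
    exact ⟨fun e => congrArg Subtype.val e, fun e => Subtype.ext e⟩
  have hgG : (g : G) ∈ Subgroup.normalizer (Subgroup.centralizer ({(x : G)} : Set G) : Set G) := by
    by_contra hgG
    refine hy1 (Subtype.ext (h x g hgG y ((hmem y).1 hy) ?_))
    exact (hmem (g * y * g⁻¹)).1 hy'
  refine Subgroup.mem_normalizer_iff.2 fun a => ?_
  rw [hmem, hmem]
  exact Subgroup.mem_normalizer_iff.1 hgG a

theorem CTI.of_mulEquiv {H : Type*} [Group H] (h : CTI G) (e : G ≃* H) : CTI H := by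
  intro x g hg y hy hy'
  by_contra hy1
  refine hg ?_
  have hmem : ∀ a : H, a ∈ Subgroup.centralizer ({x} : Set H) ↔
      e.symm a ∈ Subgroup.centralizer ({e.symm x} : Set G) := fun a => by
    rw [Subgroup.mem_centralizer_singleton_iff, Subgroup.mem_centralizer_singleton_iff, ← map_mul,
      ← map_mul, e.symm.injective.eq_iff]
  have hgG : e.symm g ∈ Subgroup.normalizer (Subgroup.centralizer ({e.symm x} : Set G) : Set G) := by
    by_contra hgG
    refine hy1 (e.symm.injective ((h (e.symm x) _ hgG (e.symm y) ((hmem y).1 hy) ?_).trans (map_one _).symm))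
    rw [← map_inv, ← map_mul, ← map_mul]
    exact (hmem _).1 hy'
  refine Subgroup.mem_normalizer_iff.2 fun a => ?_
  rw [hmem, hmem, map_mul, map_mul, map_inv]
  exact Subgroup.mem_normalizer_iff.1 hgG (e.symm a)

theorem CTI.normal_of_central (h : CTI G) {z : G} (hz : z ≠ 1) (hc : ∀ g : G, Commute g z) (x : G) :
    (Subgroup.centralizer ({x} : Set G)).Normal := by
  refine Subgroup.normalizer_eq_top_iff.1 (eq_top_iff.2 fun g _ => ?_)
  by_contra hg
  refine hz (h x g hg z (Subgroup.mem_centralizer_singleton_iff.2 (hc x).symm.eq) ?_)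
  rw [(hc g).eq, mul_inv_cancel_right]
  exact Subgroup.mem_centralizer_singleton_iff.2 (hc x).symm.eq

theorem isNilpotent_of_normal_centralizers [Finite G]
    (h : ∀ x : G, (Subgroup.centralizer ({x} : Set G)).Normal) : Group.IsNilpotent G := by
  refine ((Group.isNilpotent_of_finite_tfae (G := G)).out 0 3).2 ?_
  intro p hp P
  have key : ∀ x : G, (∃ k : ℕ, x ^ p ^ k = 1) → x ∈ (P : Subgroup G) := by
    rintro x ⟨k, hk⟩
    let N : Subgroup G := Subgroup.normalClosure {x}
    have hNC : N ≤ Subgroup.centralizer ({x} : Set G) := by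
      haveI := h x
      exact Subgroup.normalClosure_le_normal (Set.singleton_subset_iff.2
        (Subgroup.mem_centralizer_singleton_iff.2 rfl))
    haveI hNn : N.Normal := Subgroup.normalClosure_normal
    have hxN : x ∈ N := Subgroup.subset_normalClosure rfl
    have hcomm : ∀ a ∈ N, ∀ b ∈ N, a * b = b * a := by
      intro a ha b hb
      induction hb using Subgroup.closure_induction with
      | mem b hb =>
        obtain ⟨z, hz, hzb⟩ := Group.mem_conjugatesOfSet_iff.1 hb
        rw [Set.mem_singleton_iff] at hz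
        subst hz
        obtain ⟨c, rfl⟩ := isConj_iff.1 hzb
        have h1 := hNn.conj_mem a ha c⁻¹
        rw [inv_inv] at h1
        have h2 := Subgroup.mem_centralizer_singleton_iff.1 (hNC h1)
        calc a * (c * z * c⁻¹) = c * ((c⁻¹ * a * c) * z) * c⁻¹ := by group
          _ = c * (z * (c⁻¹ * a * c)) * c⁻¹ := by rw [h2]
          _ = c * z * c⁻¹ * a := by group
      | one => simp
      | mul u v _ _ hu hv => rw [← mul_assoc, hu, mul_assoc, hv, mul_assoc]
      | inv u _ hu => exact ((show Commute a u from hu).inv_right).eq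
    have hpow : ∀ a ∈ N, a ^ p ^ k = 1 := by
      intro a ha
      induction ha using Subgroup.closure_induction with
      | mem a ha =>
        obtain ⟨z, hz, hza⟩ := Group.mem_conjugatesOfSet_iff.1 ha
        rw [Set.mem_singleton_iff] at hz
        subst hz
        obtain ⟨c, rfl⟩ := isConj_iff.1 hza
        rw [conj_pow, hk, mul_one, mul_inv_cancel]
      | one => exact one_pow _
      | mul u v hu hv ihu ihv =>
        rw [(show Commute u v from hcomm u hu v hv).mul_pow, ihu, ihv, one_mul]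
      | inv u _ hu => rw [inv_pow, hu, inv_one]
    have hNp : IsPGroup p N := fun a => ⟨k, Subtype.ext (hpow a a.2)⟩
    have hsup : (P : Subgroup G) ⊔ N = P :=
      P.3 (P.isPGroup'.to_sup_of_normal_right hNp) le_sup_left
    exact hsup.le ((le_sup_right : N ≤ _) hxN)
  refine ⟨fun a ha g => key _ ?_⟩
  obtain ⟨k, hk⟩ := P.isPGroup' ⟨a, ha⟩
  exact ⟨k, by rw [conj_pow, show a ^ p ^ k = 1 from congrArg Subtype.val hk, mul_one, mul_inv_cancel]⟩

theorem CTI.isNilpotent_of_central [Finite G] (h : CTI G) {z : G} (hz : z ≠ 1)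
    (hc : ∀ g : G, Commute g z) : Group.IsNilpotent G :=
  isNilpotent_of_normal_centralizers (h.normal_of_central hz hc)

theorem CTI.isCN [Finite G] (h : CTI G) : IsCNGroup G := fun g hg =>
  (h.subgroup _).isNilpotent_of_central (z := ⟨g, Subgroup.mem_centralizer_singleton_iff.2 rfl⟩)
    (fun e => hg (congrArg Subtype.val e))
    fun a => Subtype.ext (Subgroup.mem_centralizer_singleton_iff.1 a.2)

theorem CTI.sylow_normal [Finite G] (h : CTI G) {p : ℕ} [Fact p.Prime] {O : Subgroup G} [O.Normal]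
    (hO : IsPGroup p O) (hO1 : O ≠ ⊥) (P : Sylow p G) :
    (P : Subgroup G) ≠ ⊥ ∧ (P : Subgroup G).Normal := by
  have hle : ∀ Q : Sylow p G, O ≤ (Q : Subgroup G) := fun Q => by
    have hsup : (Q : Subgroup G) ⊔ O = Q := Q.3 (Q.isPGroup'.to_sup_of_normal_right hO) le_sup_left
    exact le_sup_right.trans hsup.le
  refine ⟨fun e => hO1 (le_bot_iff.1 (e ▸ hle P)), ⟨fun a ha g => ?_⟩⟩
  have hP : g • P = P := by
    by_contra hne
    exact hO1 (le_bot_iff.1 (S4066.result h (g • P) P hne ▸ le_inf (hle _) (hle P)))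
  have h1 : g * a * g⁻¹ ∈ ((g • P : Sylow p G) : Subgroup G) :=
    Subgroup.mem_map_of_mem (MulAut.conj g).toMonoidHom ha
  rwa [hP] at h1

open QuaternionGroup in
theorem not_CTI_quaternion {n : ℕ} (hn : 2 ≤ n) : ¬ CTI (QuaternionGroup (2 ^ n)) := by
  intro h
  set m := 2 ^ n with hm
  have hm4 : 4 ≤ m := by
    have := Nat.pow_le_pow_right (show 0 < 2 by norm_num) hn
    omega
  haveI : NeZero m := ⟨by omega⟩
  have key : ∀ i : ℕ, i < 2 * m → ((i : ZMod (2 * m)) = 0 ↔ i = 0) := fun i hi => by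
    rw [ZMod.natCast_eq_zero_iff]
    exact ⟨fun hd => Nat.eq_zero_of_dvd_of_lt hd hi, fun e => e ▸ dvd_zero _⟩
  have hmm : (m : ZMod (2 * m)) + m = 0 := by
    rw [← Nat.cast_add, ← two_mul, ZMod.natCast_self]
  have hz : (a (m : ZMod (2 * m)) : QuaternionGroup m) ≠ 1 := by
    rw [one_def, Ne, QuaternionGroup.a.injEq, key m (by omega)]
    omega
  have hc : ∀ g : QuaternionGroup m, Commute g (a (m : ZMod (2 * m))) := by
    rintro (i | i)
    · show _ = _
      rw [a_mul_a, a_mul_a, add_comm]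
    · show _ = _
      rw [xa_mul_a, a_mul_xa, QuaternionGroup.xa.injEq, eq_sub_iff_add_eq, add_assoc, hmm, add_zero]
  have hN := h.normal_of_central hz hc (xa 0)
  have hmem : (a (1 : ZMod (2 * m)) : QuaternionGroup m) * xa 0 * (a 1)⁻¹ ∈
      Subgroup.centralizer ({xa 0} : Set (QuaternionGroup m)) :=
    hN.conj_mem _ (Subgroup.mem_centralizer_singleton_iff.2 rfl) _
  rw [Subgroup.mem_centralizer_singleton_iff,
    show (a (1 : ZMod (2 * m)) : QuaternionGroup m)⁻¹ = a (-1) from rfl, a_mul_xa, xa_mul_a,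
    xa_mul_xa, xa_mul_xa, QuaternionGroup.a.injEq] at hmem
  have h4 : ((4 : ℕ) : ZMod (2 * m)) = 0 := by
    push_cast
    linear_combination hmem
  have := (key 4 (by omega)).1 h4
  omega

/-- The complement of a Frobenius group of this kind. -/
theorem CTI.complement [Finite G] {E : Subgroup G} (h : CTI G) (hn : Group.IsNilpotent E)
    (hs : Frobenius.SmallCyclic E) :
    IsCyclic E ∨ ∃ m : ℕ, Odd m ∧ Nonempty (E ≃* Multiplicative (ZMod m) × QuaternionGroup 2) := by
  rcases CN.cyclic_or_quaternion hn hs with hc | ⟨C, Q, hCQ, hcomm, hC, hodd, n, ⟨e⟩⟩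
  · exact Or.inl hc
  have hn1 : n ≤ 1 := by
    by_contra hcon
    exact not_CTI_quaternion (by omega) ((h.subgroup Q).of_mulEquiv e)
  have hcard : Nat.card Q = 4 * 2 ^ n := by
    haveI : NeZero (2 ^ n) := ⟨by positivity⟩
    rw [Nat.card_congr e.toEquiv, Nat.card_eq_fintype_card, QuaternionGroup.card]
  have hcop : (Nat.card C).Coprime (Nat.card Q) := by
    rw [hcard]
    exact ((Nat.coprime_two_right.2 hodd).pow_right 2).mul_right
      ((Nat.coprime_two_right.2 hodd).pow_right n)
  have hdis : C ⊓ Q = ⊥ := Subgroup.inf_eq_bot_of_coprime hcop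
  have hCE : C ≤ E := hCQ ▸ le_sup_left
  have hQE : Q ≤ E := hCQ ▸ le_sup_right
  let f : C × Q →* E := MonoidHom.noncommCoprod (Subgroup.inclusion hCE) (Subgroup.inclusion hQE)
    fun c q => Subtype.ext (hcomm c c.2 q q.2)
  have hinj : Function.Injective f := (injective_iff_map_eq_one f).2 fun ⟨c, q⟩ hcq => by
    have h1 : (c : G) * q = 1 := congrArg Subtype.val hcq
    have h2 : (c : G) ∈ C ⊓ Q := ⟨c.2, by rw [eq_inv_of_mul_eq_one_left h1]; exact Q.inv_mem q.2⟩
    rw [hdis, Subgroup.mem_bot] at h2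
    rw [h2, one_mul] at h1
    exact Prod.ext (Subtype.ext h2) (Subtype.ext h1)
  have hsurj : Function.Surjective f := by
    intro x
    have hle : E ≤ f.range.map E.subtype := by
      conv_lhs => rw [← hCQ]
      exact sup_le (fun c hc => ⟨⟨c, hCE hc⟩, ⟨(⟨c, hc⟩, 1), Subtype.ext (mul_one c)⟩, rfl⟩)
        (fun q hq => ⟨⟨q, hQE hq⟩, ⟨(1, ⟨q, hq⟩), Subtype.ext (one_mul q)⟩, rfl⟩)
    obtain ⟨y, ⟨w, hw⟩, hy⟩ := hle x.2
    exact ⟨w, hw.trans (Subtype.ext hy)⟩
  let φ : C × Q ≃* E := MulEquiv.ofBijective f ⟨hinj, hsurj⟩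
  haveI := hC
  rcases (show n = 0 ∨ n = 1 by omega) with rfl | rfl
  · left
    haveI : IsCyclic (QuaternionGroup (2 ^ 0)) := isCyclic_of_orderOf_eq_card (QuaternionGroup.xa 0) (by
      haveI : NeZero (2 ^ 0) := ⟨one_ne_zero⟩
      rw [QuaternionGroup.orderOf_xa, Nat.card_eq_fintype_card, QuaternionGroup.card]
      norm_num)
    haveI : IsCyclic Q := e.isCyclic.2 inferInstance
    exact φ.isCyclic.1 ((Group.isCyclic_prod_iff).2 ⟨inferInstance, inferInstance, hcop⟩)
  · right
    refine ⟨Nat.card C, hodd, ⟨φ.symm.trans ((zmodCyclicMulEquiv hC).symm.prodCongr ?_)⟩⟩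
    rw [pow_one] at e
    exact e

/-- With a non-trivial normal `p`-subgroup. -/
theorem CTI.frobenius [Finite G] (h : CTI G) {p : ℕ} [Fact p.Prime] {O : Subgroup G} [O.Normal]
    (hO : IsPGroup p O) (hO1 : O ≠ ⊥) :
    Group.IsNilpotent G ∨
      ∃ H : Subgroup G, Cfsg.IsFrobeniusComplement H ∧
        (IsCyclic H ∨ ∃ m : ℕ, Odd m ∧
          Nonempty (H ≃* Multiplicative (ZMod m) × QuaternionGroup 2)) := by
  by_cases hnn : Group.IsNilpotent G
  · exact Or.inl hnn
  obtain ⟨P⟩ := (inferInstance : Nonempty (Sylow p G))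
  obtain ⟨hP1, hPn⟩ := h.sylow_normal hO hO1 P
  obtain ⟨-, -, -, E, -, hE, -, hEn, hEs⟩ := CN.frobenius_of_normal_sylow h.isCN hnn P hP1 hPn
  exact Or.inr ⟨E, hE, h.complement hEn hEs⟩

end Cfsg.Agent.CentralizerTI
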