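import Cfsg.Agent.Lib.CentralizerTI.Basic
import Cfsg.Agent.Lib.CAEven.Setup
import Cfsg.Agent.EqLemmas

/-
Simple groups with a TI centralizer of an involution: the action on the conjugates of that
centralizer is a Zassenhaus action. (The commuting transitive case is `Lib/CAEven/Setup`.)

* `Setup`, `Setup.card_D`, `Setup.card_Ω`
-/

set_option autoImplicit false

open MulAction

namespace Cfsg.Agent.CentralizerTI

open CAEven (inv_conj conj_or_common)

/-- `t` is an involution. -/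
local notation "Inv" => CAEven.Inv

variable {G : Type*} [Group G] [Finite G]

variable (G) in
/-- A simple group in which the centralizer of the involution `z` is a TI Hall subgroup containing the
centralizers of its non-identity elements. -/
structure Setup where
  simple : IsSimpleGroup G
  /-- An involution. -/
  z : G
  z_inv : Inv z
  A_ne_top : Subgroup.centralizer ({z} : Set G) ≠ ⊤
  cent_le : ∀ x ∈ Subgroup.centralizer ({z} : Set G), x ≠ 1 → ∀ g : G, Commute g x →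
    g ∈ Subgroup.centralizer ({z} : Set G)
  ti_field : ∀ x ∈ Subgroup.centralizer ({z} : Set G), x ≠ 1 → ∀ g : G,
    g * x * g⁻¹ ∈ Subgroup.centralizer ({z} : Set G) →
      g ∈ Subgroup.normalizer (Subgroup.centralizer ({z} : Set G) : Set G)
  hall_field : (Nat.card (Subgroup.centralizer ({z} : Set G))).Coprime
    (Subgroup.centralizer ({z} : Set G)).index
  exists_outer : ∃ g ∈ Subgroup.normalizer (Subgroup.centralizer ({z} : Set G) : Set G),
    g ∉ Subgroup.centralizer ({z} : Set G)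

namespace Setup

variable (E : Setup G)

/-- The centraliser of the central involution. -/
abbrev A : Subgroup G := Subgroup.centralizer ({E.z} : Set G)

/-- Its normaliser. -/
abbrev N : Subgroup G := Subgroup.normalizer (E.A : Set G)

/-- The base point. -/
abbrev pt : G ⧸ E.N := ((1 : G) : G ⧸ E.N)

theorem mem_A {g : G} : g ∈ E.A ↔ Commute g E.z := Subgroup.mem_centralizer_singleton_iff

theorem z_mem : E.z ∈ E.A := E.mem_A.2 (Commute.refl _)

theorem cent_mem {x g : G} (hx : x ≠ 1) (hxA : x ∈ E.A) (h : Commute g x) : g ∈ E.A :=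
  E.cent_le x hxA hx g h

theorem ti {x g : G} (hx : x ≠ 1) (hxA : x ∈ E.A) (hgx : g * x * g⁻¹ ∈ E.A) : g ∈ E.N :=
  E.ti_field x hxA hx g hgx

theorem mem_N_conj {g x : G} (hg : g ∈ E.N) (hx : x ∈ E.A) : g * x * g⁻¹ ∈ E.A :=
  (Subgroup.mem_normalizer_iff.1 hg x).1 hx

theorem A_le_N : E.A ≤ E.N := Subgroup.le_normalizer

theorem hall : (Nat.card E.A).Coprime E.A.index := E.hall_field

theorem mem_A_of_pow {y : G} (hy : y ∈ E.N) (hpow : y ^ Nat.card E.A = 1) : y ∈ E.A := by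
  have hcop : (Nat.card E.A).Coprime (Nat.card (E.N ⧸ E.A.subgroupOf E.N)) :=
    E.hall.coprime_dvd_right (by
      rw [← Subgroup.index_eq_card]
      exact Subgroup.relIndex_dvd_index_of_le E.A_le_N)
  have h1 : (QuotientGroup.mk' (E.A.subgroupOf E.N) ⟨y, hy⟩) ^ Nat.card E.A = 1 := by
    rw [← map_pow, show (⟨y, hy⟩ : E.N) ^ Nat.card E.A = 1 from Subtype.ext hpow, map_one]
  have h2 := pow_gcd_eq_one.2 ⟨h1, pow_card_eq_one' (x := QuotientGroup.mk' (E.A.subgroupOf E.N) ⟨y, hy⟩)⟩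
  rw [hcop.gcd_eq_one, pow_one, QuotientGroup.mk'_apply, QuotientGroup.eq_one_iff] at h2
  exact h2

theorem two_dvd : 2 ∣ Nat.card E.A := by
  have h := orderOf_eq_prime (x := E.z) (p := 2) (by rw [pow_two]; exact E.z_inv.2) E.z_inv.1
  rw [← h, ← Subgroup.orderOf_mk E.z E.z_mem]
  exact orderOf_dvd_natCard _

theorem inv_mem_A {t : G} (ht : Inv t) (htN : t ∈ E.N) : t ∈ E.A := by
  obtain ⟨c, hc⟩ := E.two_dvd
  exact E.mem_A_of_pow htN (by rw [hc, pow_mul, pow_two, ht.2, one_pow])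

theorem eq_bot_or_top (E : Setup G) {H : Subgroup G} (hH : H.Normal) : H = ⊥ ∨ H = ⊤ := by
  haveI := E.simple
  exact hH.eq_bot_or_eq_top

theorem N_ne_top : E.N ≠ ⊤ := by
  intro h
  rcases E.eq_bot_or_top (Subgroup.normalizer_eq_top_iff.1 h) with hA | hA
  · exact E.z_inv.1 (Subgroup.mem_bot.1 (hA ▸ E.z_mem : E.z ∈ (⊥ : Subgroup G)))
  · exact E.A_ne_top hA

theorem exists_conj_z {t : G} (ht : Inv t) : ∃ g : G, g * E.z * g⁻¹ = t := by
  have key : ∀ {t : G}, Inv t → t ∈ E.A → ∃ g : G, g * E.z * g⁻¹ = t := by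
    intro t ht htA
    by_contra hno
    refine E.N_ne_top (eq_top_iff.2 fun g _ => ?_)
    refine E.ti E.z_inv.1 E.z_mem ?_
    have hz' := inv_conj E.z_inv g
    rcases conj_or_common hz' ht with ⟨h, hh⟩ | ⟨w, hw, hw1, hw2⟩
    · exact absurd ⟨h * g, by rw [← hh]; group⟩ hno
    · exact E.cent_mem hw.1 (E.cent_mem ht.1 htA hw2) hw1.symm
  rcases conj_or_common E.z_inv ht with h | ⟨w, hw, hw1, hw2⟩
  · exact h
  · exact key ht (E.cent_mem hw.1 (E.mem_A.2 hw1) hw2.symm)

/-- The involutions of `A`. -/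
def invs : Set G := {t | t ∈ E.A ∧ Inv t}

theorem exists_N_conj {t : G} (ht : t ∈ E.invs) : ∃ g ∈ E.N, g * E.z * g⁻¹ = t := by
  obtain ⟨g, hg⟩ := E.exists_conj_z ht.2
  exact ⟨g, E.ti E.z_inv.1 E.z_mem (hg ▸ ht.1), hg⟩

/-- The number of involutions of `A`. -/
noncomputable def k : ℕ := Nat.card E.invs

theorem relIndex_A : E.A.relIndex E.N = E.k := by
  show (E.A.subgroupOf E.N).index = _
  rw [Subgroup.index_eq_card]
  let φ : E.N → E.invs := fun g =>
    ⟨(g : G) * E.z * (g : G)⁻¹, E.mem_N_conj g.2 E.z_mem, inv_conj E.z_inv _⟩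
  refine Nat.card_congr (Equiv.ofBijective
    (fun q : E.N ⧸ E.A.subgroupOf E.N => Quotient.liftOn' q φ ?_) ⟨?_, ?_⟩)
  · intro g h hgh
    rw [QuotientGroup.leftRel_apply, Subgroup.mem_subgroupOf] at hgh
    have hc := E.mem_A.1 hgh
    refine Subtype.ext ?_
    show (g : G) * E.z * (g : G)⁻¹ = (h : G) * E.z * (h : G)⁻¹
    rw [Subgroup.coe_mul, Subgroup.coe_inv] at hc
    have : (g : G)⁻¹ * h * E.z * ((g : G)⁻¹ * h)⁻¹ = E.z := by rw [hc.eq, mul_inv_cancel_right]
    conv_lhs => rw [← this]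
    group
  · intro q r
    refine Quotient.inductionOn₂' q r fun g h hgh => ?_
    have e : (g : G) * E.z * (g : G)⁻¹ = (h : G) * E.z * (h : G)⁻¹ := congrArg Subtype.val hgh
    refine QuotientGroup.eq.2 (Subgroup.mem_subgroupOf.2 (E.mem_A.2 ?_))
    show _ = _
    rw [Subgroup.coe_mul, Subgroup.coe_inv, mul_assoc]
    calc (g : G)⁻¹ * ((h : G) * E.z) = (g : G)⁻¹ * ((h : G) * E.z * (h : G)⁻¹) * h := by group
      _ = E.z * ((g : G)⁻¹ * h) := by rw [← e]; group
  · intro t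
    obtain ⟨g, hg, hgt⟩ := E.exists_N_conj t.2
    exact ⟨QuotientGroup.mk ⟨g, hg⟩, Subtype.ext hgt⟩

/-- A subgroup of `N` meeting `A` trivially has order at most `k`. -/
theorem card_le_k {M : Subgroup G} (hM : M ≤ E.N) (hMA : ∀ x ∈ M, x ∈ E.A → x = 1) :
    Nat.card M ≤ E.k := by
  rw [← E.relIndex_A]
  show _ ≤ (E.A.subgroupOf E.N).index
  rw [Subgroup.index_eq_card]
  refine Nat.card_le_card_of_injective
    (fun x : M => (QuotientGroup.mk (⟨x, hM x.2⟩ : E.N) : E.N ⧸ E.A.subgroupOf E.N)) ?_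
  intro x y hxy
  rw [QuotientGroup.eq, Subgroup.mem_subgroupOf] at hxy
  exact Subtype.ext (inv_mul_eq_one.1 (hMA _ (M.mul_mem (M.inv_mem x.2) y.2) hxy))

theorem one_lt_relIndex : E.A.relIndex E.N ≠ 1 := fun h => by
  obtain ⟨g, hg, hgA⟩ := E.exists_outer
  exact hgA (Subgroup.relIndex_eq_one.1 h hg)

theorem two_le_k : 2 ≤ E.k := by
  rw [← E.relIndex_A]
  have h1 := E.one_lt_relIndex
  have h0 : E.A.relIndex E.N ≠ 0 := Subgroup.index_ne_zero_of_finite
  omega

/-- The involutions of `A` are central in `A`. -/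
theorem invs_central {t x : G} (ht : t ∈ E.invs) (hx : x ∈ E.A) : Commute x t := by
  obtain ⟨g, hg, rfl⟩ := E.exists_N_conj ht
  have hx' : g⁻¹ * x * g ∈ E.A := by
    simpa using E.mem_N_conj (E.N.inv_mem hg) hx
  have := (E.mem_A.1 hx').map (MulAut.conj g).toMonoidHom
  simpa [mul_assoc] using this

/-! ### The action on the cosets of `N` -/

theorem smul_pt (g : G) : g • E.pt = (g : G ⧸ E.N) := by
  rw [MulAction.Quotient.smul_coe, smul_eq_mul, mul_one]

theorem exists_smul_pt (c : G ⧸ E.N) : ∃ g : G, g • E.pt = c :=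
  ⟨c.out, by rw [E.smul_pt, QuotientGroup.out_eq']⟩

theorem stab_pt {g : G} : g • E.pt = E.pt ↔ g ∈ E.N := by
  rw [E.smul_pt, QuotientGroup.eq, mul_one, inv_mem_iff]

theorem fix_iff (t g : G) : t • (g • E.pt) = g • E.pt ↔ g⁻¹ * t * g ∈ E.N := by
  rw [← E.stab_pt, mul_smul, mul_smul, inv_smul_eq_iff]

theorem fix_exists_unique {t : G} (ht : Inv t) : ∃! c : G ⧸ E.N, t • c = c := by
  obtain ⟨g, rfl⟩ := E.exists_conj_z ht
  have hfix : (g * E.z * g⁻¹) • (g • E.pt) = g • E.pt := (E.fix_iff _ _).2 (by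
    have : g⁻¹ * (g * E.z * g⁻¹) * g = E.z := by group
    rw [this]; exact E.A_le_N E.z_mem)
  refine ⟨_, hfix, fun c hc => ?_⟩
  obtain ⟨h, rfl⟩ := E.exists_smul_pt c
  have hA : (h⁻¹ * g) * E.z * (h⁻¹ * g)⁻¹ ∈ E.A := by
    have := E.inv_mem_A (inv_conj (inv_conj E.z_inv g) h⁻¹) (by
      rw [inv_inv]; exact (E.fix_iff _ _).1 hc)
    have e : (h⁻¹ * g) * E.z * (h⁻¹ * g)⁻¹ = h⁻¹ * (g * E.z * g⁻¹) * (h⁻¹)⁻¹ := by group
    rwa [e]
  have := E.stab_pt.2 (E.ti E.z_inv.1 E.z_mem hA)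
  rw [mul_smul, inv_smul_eq_iff] at this
  exact this.symm

theorem A_semiregular {x : G} (hxA : x ∈ E.A) (hx1 : x ≠ 1) {c : G ⧸ E.N} (hc : x • c = c) :
    c = E.pt := by
  obtain ⟨g, rfl⟩ := E.exists_smul_pt c
  have hy : g⁻¹ * x * g ∈ E.N := (E.fix_iff _ _).1 hc
  have hyA : g⁻¹ * x * g ∈ E.A := E.mem_A_of_pow hy (by
    have hx : x ^ Nat.card E.A = 1 :=
      congrArg Subtype.val (pow_card_eq_one' (x := (⟨x, hxA⟩ : E.A)))
    rw [show g⁻¹ * x * g = g⁻¹ * x * (g⁻¹)⁻¹ by rw [inv_inv], conj_pow, hx, mul_one, mul_inv_cancel])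
  rw [E.stab_pt]
  exact inv_mem_iff.1 (E.ti hx1 hxA (by rwa [inv_inv]))

/-- The stabiliser of the base point and `b`. -/
abbrev D (b : G ⧸ E.N) : Subgroup G := stabilizer G E.pt ⊓ stabilizer G b

theorem mem_D {b : G ⧸ E.N} {x : G} : x ∈ E.D b ↔ x • E.pt = E.pt ∧ x • b = b := Iff.rfl

theorem D_le_N (b : G ⧸ E.N) : E.D b ≤ E.N := fun _ hx => E.stab_pt.1 hx.1

theorem D_inf_A {b : G ⧸ E.N} (hb : b ≠ E.pt) : ∀ x ∈ E.D b, x ∈ E.A → x = 1 := fun _ hx hxA =>
  by_contra fun h1 => hb (E.A_semiregular hxA h1 hx.2)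

theorem card_D_le {b : G ⧸ E.N} (hb : b ≠ E.pt) : Nat.card (E.D b) ≤ E.k :=
  E.card_le_k (E.D_le_N b) (E.D_inf_A hb)

/-- The involutions carrying the base point to `b`. -/
def T (b : G ⧸ E.N) : Set G := {t | Inv t ∧ t • E.pt = b}

theorem T_back {b : G ⧸ E.N} {t : G} (ht : t ∈ E.T b) : t • b = E.pt := by
  rw [← ht.2, smul_smul, ht.1.2, one_smul]

theorem mul_mem_D {b : G ⧸ E.N} {s t : G} (hs : s ∈ E.T b) (ht : t ∈ E.T b) : s * t ∈ E.D b :=
  E.mem_D.2 ⟨by rw [mul_smul, ht.2, E.T_back hs], by rw [mul_smul, E.T_back ht, hs.2]⟩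

theorem card_T_le_D (b : G ⧸ E.N) : Nat.card (E.T b) ≤ Nat.card (E.D b) := by
  rcases isEmpty_or_nonempty (E.T b) with h | ⟨⟨s, hs⟩⟩
  · simp
  · exact Nat.card_le_card_of_injective (fun t : E.T b => (⟨s * t, E.mul_mem_D hs t.2⟩ : E.D b))
      fun t u htu => Subtype.ext (mul_left_cancel (congrArg Subtype.val htu))

theorem card_fibre (c : G ⧸ E.N) : Nat.card {t : G // Inv t ∧ t • c = c} = E.k := by
  obtain ⟨g, rfl⟩ := E.exists_smul_pt c
  refine Nat.card_congr (Equiv.ofBijective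
    (fun t => (⟨g⁻¹ * t.1 * g, ?_, ?_⟩ : E.invs)) ⟨?_, ?_⟩)
  · exact E.inv_mem_A (by simpa using inv_conj t.2.1 g⁻¹) ((E.fix_iff _ _).1 t.2.2)
  · simpa using inv_conj t.2.1 g⁻¹
  · intro t u htu
    exact Subtype.ext (mul_left_cancel (mul_right_cancel (congrArg Subtype.val htu)))
  · intro u
    refine ⟨⟨g * u.1 * g⁻¹, inv_conj u.2.2 g, (E.fix_iff _ _).2 ?_⟩, Subtype.ext ?_⟩
    · have : g⁻¹ * (g * u.1 * g⁻¹) * g = u.1 := by group
      rw [this]; exact E.A_le_N u.2.1
    · show g⁻¹ * (g * u.1 * g⁻¹) * g = u.1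
      group

theorem card_T {b : G ⧸ E.N} (hb : b ≠ E.pt) : Nat.card (E.T b) = E.k := by
  classical
  have := Fintype.ofFinite G
  let J : Finset G := Finset.univ.filter fun t => Inv t
  have hfib : ∀ (p : G → Prop) [DecidablePred p],
      (J.filter p).card = Nat.card {t : G // Inv t ∧ p t} := by
    intro p _
    rw [Finset.filter_filter, Nat.card_eq_fintype_card, Fintype.card_subtype]
  have h1 : J.card = Fintype.card (G ⧸ E.N) * E.k := by
    rw [Finset.card_eq_sum_card_fiberwise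
      (f := fun t => if h : Inv t then (E.fix_exists_unique h).choose else E.pt)
      (t := Finset.univ) (fun _ _ => Finset.mem_univ _), ← Finset.card_univ]
    rw [Finset.sum_const_nat (m := E.k)]
    intro c _
    have hset : J.filter (fun t => (if h : Inv t then (E.fix_exists_unique h).choose else E.pt) = c) =
        J.filter fun t => t • c = c := by
      refine Finset.filter_congr fun t ht => ?_
      have hti : Inv t := (Finset.mem_filter.1 ht).2
      rw [dif_pos hti]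
      have hsp := (E.fix_exists_unique hti).choose_spec
      exact ⟨fun h => h ▸ hsp.1, fun h => (hsp.2 c h).symm⟩
    rw [hset, hfib]
    exact E.card_fibre c
  have h2 : J.card = ∑ c : G ⧸ E.N, Nat.card (E.T c) := by
    rw [Finset.card_eq_sum_card_fiberwise (f := fun t => t • E.pt) (t := Finset.univ)
      (fun _ _ => Finset.mem_univ _)]
    refine Finset.sum_congr rfl fun c _ => ?_
    rw [hfib]
    rfl
  have hle : ∀ c : G ⧸ E.N, c ∈ Finset.univ → Nat.card (E.T c) ≤ E.k := by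
    intro c _
    rcases eq_or_ne c E.pt with rfl | hc
    · exact (E.card_fibre E.pt).le
    · exact (E.card_T_le_D c).trans (E.card_D_le hc)
  refine (Finset.sum_eq_sum_iff_of_le hle).1 ?_ b (Finset.mem_univ _)
  rw [← h2, h1, Finset.sum_const, Finset.card_univ, smul_eq_mul]

theorem card_D {b : G ⧸ E.N} (hb : b ≠ E.pt) : Nat.card (E.D b) = E.k :=
  le_antisymm (E.card_D_le hb) (E.card_T hb ▸ E.card_T_le_D b)

theorem exists_swap {b : G ⧸ E.N} (hb : b ≠ E.pt) : ∃ s : G, s ∈ E.T b := by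
  have h := E.card_T hb
  have := E.two_le_k
  rcases isEmpty_or_nonempty (E.T b) with he | ⟨⟨s, hs⟩⟩
  · rw [Nat.card_of_isEmpty] at h; omega
  · exact ⟨s, hs⟩

theorem inverts {b : G ⧸ E.N} (hb : b ≠ E.pt) {s : G} (hs : s ∈ E.T b) {d : G} (hd : d ∈ E.D b) :
    s * d * s⁻¹ = d⁻¹ := by
  have hbij : Function.Bijective (fun t : E.T b => (⟨s * t, E.mul_mem_D hs t.2⟩ : E.D b)) := by
    refine (Nat.bijective_iff_injective_and_card _).2 ⟨?_, ?_⟩
    · exact fun t u htu => Subtype.ext (mul_left_cancel (congrArg Subtype.val htu))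
    · rw [E.card_T hb, E.card_D hb]
  obtain ⟨⟨t, ht⟩, htd⟩ := hbij.2 ⟨d, hd⟩
  have e : d = s * t := (congrArg Subtype.val htd).symm
  rw [e, mul_inv_rev, inv_eq_of_mul_eq_one_right ht.1.2, inv_eq_of_mul_eq_one_right hs.1.2,
    ← mul_assoc, hs.1.2, one_mul]

theorem D_comm {b : G ⧸ E.N} (hb : b ≠ E.pt) {d e : G} (hd : d ∈ E.D b) (he : e ∈ E.D b) :
    Commute d e := by
  obtain ⟨s, hs⟩ := E.exists_swap hb
  have h := E.inverts hb hs ((E.D b).mul_mem hd he)
  rw [← conj_mul, E.inverts hb hs hd, E.inverts hb hs he, ← mul_inv_rev, inv_inj] at h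
  exact h.symm

theorem D_ne_inv {b : G ⧸ E.N} (hb : b ≠ E.pt) {d : G} (hd : d ∈ E.D b) (h : d * d = 1) : d = 1 := by
  by_contra h1
  exact hb ((E.fix_exists_unique ⟨h1, h⟩).unique hd.2 hd.1)

/-- A subgroup of `N` containing `D b` and meeting `A` trivially is `D b`. -/
theorem mem_D_of_N {b : G ⧸ E.N} (hb : b ≠ E.pt) {g : G} (hg : g ∈ E.N)
    {x : G} (hx : x ∈ E.D b) (hx1 : x ≠ 1) (hgx : Commute g x) : g ∈ E.D b := by
  let M : Subgroup G := E.N ⊓ Subgroup.centralizer ({x} : Set G)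
  have hDM : E.D b ≤ M := fun d hd =>
    ⟨E.D_le_N b hd, Subgroup.mem_centralizer_singleton_iff.2 (E.D_comm hb hd hx).eq⟩
  have hMA : ∀ y ∈ M, y ∈ E.A → y = 1 := by
    intro y hy hyA
    by_contra hy1
    exact hx1 (E.D_inf_A hb x hx (E.cent_mem hy1 hyA
      (show Commute x y from (Subgroup.mem_centralizer_singleton_iff.1 hy.2).symm)))
  have hM : M = E.D b := (Subgroup.eq_of_le_of_card_ge hDM (by
    rw [E.card_D hb]; exact E.card_le_k inf_le_left hMA)).symm
  exact hM ▸ (⟨hg, Subgroup.mem_centralizer_singleton_iff.2 hgx.eq⟩ : g ∈ M)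

theorem D_eq_of_fix {b c : G ⧸ E.N} (hb : b ≠ E.pt) (hc : c ≠ E.pt)
    (hfix : ∀ d ∈ E.D b, d • c = c) : E.D b = E.D c :=
  Subgroup.eq_of_le_of_card_ge (fun d hd => E.mem_D.2 ⟨hd.1, hfix d hd⟩)
    (by rw [E.card_D hb, E.card_D hc])

theorem centralizer_D {b : G ⧸ E.N} (hb : b ≠ E.pt) {x : G} (hx : x ∈ E.D b) (hx1 : x ≠ 1) {y : G}
    (hyx : Commute y x) : y ∈ E.D b := by
  set C := Subgroup.centralizer ({x} : Set G) with hC
  haveI : Group.IsNilpotent C := by
    -- an involution exchanging `pt` and `b` acts without fixed points on `C`, which is hence abelian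
    obtain ⟨s, hs⟩ := E.exists_swap hb
    have hss : s * s = 1 := hs.1.2
    have hsx : s * x * s⁻¹ = x⁻¹ := E.inverts hb hs hx
    have hsC : ∀ c ∈ C, s * c * s⁻¹ ∈ C := fun c hc => by
      have hc' : Commute c x⁻¹ := (show Commute c x from Subgroup.mem_centralizer_singleton_iff.1 hc).inv_right
      refine Subgroup.mem_centralizer_singleton_iff.2 ?_
      have h := hc'.map (MulAut.conj s).toMonoidHom
      have e : s * x⁻¹ * s⁻¹ = x := by rw [← _root_.conj_inv, hsx, inv_inv]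
      simp only [MulEquiv.toMonoidHom_eq_coe, MonoidHom.coe_coe, MulAut.conj_apply, e] at h
      exact h.eq
    let φ : C → C := fun c => ⟨s * c * s⁻¹, hsC c c.2⟩
    let φh : C →* C := MonoidHom.mk' φ fun c d => Subtype.ext (show s * ((c : G) * d) * s⁻¹ = _ by
      simp [φ, _root_.conj_mul])
    have hsinv : s⁻¹ = s := inv_eq_of_mul_eq_one_right hss
    have h2 : Function.Involutive φh := fun c => Subtype.ext (by
      show s * (s * (c : G) * s⁻¹) * s⁻¹ = c
      rw [hsinv, ← mul_assoc, ← mul_assoc, hss, one_mul, mul_assoc, hss, mul_one])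
    have hfpf : MonoidHom.FixedPointFree φh := fun c hc => by
      by_contra hc1
      have hc1' : (c : G) ≠ 1 := fun e => hc1 (Subtype.ext e)
      obtain ⟨g, rfl⟩ := E.exists_conj_z hs.1
      have hcs : Commute (c : G) (g * E.z * g⁻¹) :=
        (mul_inv_eq_iff_eq_mul.1 (congrArg Subtype.val hc : _ = (c : G))).symm
      have hA' : ∀ w, Commute w (g * E.z * g⁻¹) → g⁻¹ * w * g ∈ E.A := fun w hw => by
        refine E.mem_A.2 ?_
        have h := hw.map (MulAut.conj g⁻¹).toMonoidHom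
        simpa [mul_assoc] using h
      have hcA := hA' _ hcs
      have hxA : g⁻¹ * x * g ∈ E.A := by
        refine E.cent_mem (x := g⁻¹ * (c : G) * g) (fun e => hc1' ?_) hcA ?_
        · calc (c : G) = g * (g⁻¹ * c * g) * g⁻¹ := by group
            _ = 1 := by rw [e]; group
        · have h := (show Commute x (c : G) from
            (show Commute (c : G) x from Subgroup.mem_centralizer_singleton_iff.1 c.2).symm).map
              (MulAut.conj g⁻¹).toMonoidHom
          simpa [mul_assoc] using h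
      have hne : g⁻¹ * x * g ≠ 1 := fun e => hx1 (by
        calc x = g * (g⁻¹ * x * g) * g⁻¹ := by group
          _ = 1 := by rw [e]; group)
      have key : ∀ q, x • q = q → g⁻¹ • q = E.pt := fun q hq =>
        E.A_semiregular hxA hne (by rw [mul_smul, mul_smul, smul_inv_smul, hq])
      exact hb (MulAction.injective g⁻¹ ((key b hx.2).trans (key E.pt hx.1).symm))
    exact @CommGroup.isNilpotent _ { (inferInstance : Group C) with
      mul_comm := fun a b => (hfpf.commute_all_of_involutive h2 a b).eq }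
  have hDC : E.D b ≤ C := fun d hd =>
    Subgroup.mem_centralizer_singleton_iff.2 (E.D_comm hb hd hx).eq
  suffices hkey : ∀ y : G, Commute y x → (∀ d ∈ E.D b, y⁻¹ * d * y ∈ E.D b) → y ∈ E.D b by
    have hnorm : Subgroup.normalizer (((E.D b).subgroupOf C : Subgroup C) : Set C) =
        (E.D b).subgroupOf C := by
      refine le_antisymm (fun (u : C) hu => Subgroup.mem_subgroupOf.2 (hkey u
        (Subgroup.mem_centralizer_singleton_iff.1 u.2) fun d hd => ?_)) Subgroup.le_normalizer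
      have h := (Subgroup.mem_normalizer_iff.1 (inv_mem hu) ⟨d, hDC hd⟩).1
        (Subgroup.mem_subgroupOf.2 hd)
      simpa [Subgroup.mem_subgroupOf] using h
    have htop := normalizerCondition_iff_only_full_group_self_normalizing.1
      (Group.normalizerCondition_of_isNilpotent : NormalizerCondition C) _ hnorm
    exact Subgroup.subgroupOf_eq_top.1 htop (Subgroup.mem_centralizer_singleton_iff.2 hyx.eq)
  intro y hyx hyD
  rcases eq_or_ne (y • E.pt) E.pt with hy | hy
  · exact E.mem_D_of_N hb (E.stab_pt.1 hy) hx hx1 hyx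
  exfalso
  have hfix : ∀ d ∈ E.D b, d • (y • E.pt) = y • E.pt := by
    intro d hd
    have h : (y⁻¹ * d * y) • E.pt = E.pt := (hyD d hd).1
    rw [mul_smul, mul_smul, inv_smul_eq_iff] at h
    exact h
  have hD := E.D_eq_of_fix hb hy hfix
  obtain ⟨t, ht⟩ := E.exists_swap hy
  have htx : t * x * t⁻¹ = x⁻¹ := E.inverts hy ht (hD ▸ hx)
  have hN : t * y ∈ E.N := E.stab_pt.1 (by rw [mul_smul, E.T_back ht])
  have htyx : (t * y) * x * (t * y)⁻¹ = x⁻¹ := by
    calc (t * y) * x * (t * y)⁻¹ = t * (y * x * y⁻¹) * t⁻¹ := by group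
      _ = x⁻¹ := by rw [hyx.eq, mul_inv_cancel_right, htx]
  -- `t * y` lies in `N` and inverts `x`; its square commutes with `x`
  let g := t * y
  have hg2 : Commute (g * g) x := by
    show g * g * x = x * (g * g)
    have h1 : g * x = x⁻¹ * g := by
      calc g * x = (g * x * g⁻¹) * g := by group
        _ = x⁻¹ * g := by rw [htyx]
    have h2 : g * x⁻¹ = x * g := by
      have h3 : g * x⁻¹ * g⁻¹ = x := by
        rw [← _root_.conj_inv, htyx, inv_inv]
      calc g * x⁻¹ = (g * x⁻¹ * g⁻¹) * g := by group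
        _ = x * g := by rw [h3]
    rw [mul_assoc, h1, ← mul_assoc, h2, mul_assoc]
  have hg2D : g * g ∈ E.D b := E.mem_D_of_N hb (E.N.mul_mem hN hN) hx hx1 hg2
  have hk : Odd E.k := by
    rw [← E.card_D hb]
    by_contra hev
    rw [Nat.not_odd_iff_even, even_iff_two_dvd] at hev
    haveI : Fact (Nat.Prime 2) := ⟨Nat.prime_two⟩
    obtain ⟨d, hd⟩ := exists_prime_orderOf_dvd_card' 2 hev
    have hd2 := pow_orderOf_eq_one d
    rw [hd, pow_two] at hd2
    have := E.D_ne_inv hb d.2 (congrArg Subtype.val hd2)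
    rw [← Subgroup.orderOf_coe, this, orderOf_one] at hd
    omega
  -- hence `g` has a power of odd exponent in `A ∩ N`, which inverts `x` and centralises it
  obtain ⟨j, hj⟩ := hk
  have hgk : g ^ E.k ∈ E.A := by
    have h := pow_card_eq_one' (x := QuotientGroup.mk' (E.A.subgroupOf E.N) ⟨g, hN⟩)
    rw [← Subgroup.index_eq_card, show (E.A.subgroupOf E.N).index = E.k from E.relIndex_A, ← map_pow,
      QuotientGroup.mk'_apply, QuotientGroup.eq_one_iff, Subgroup.mem_subgroupOf] at h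
    exact h
  have hge : g ^ E.k = (g * g) ^ j * g := by
    rw [hj, pow_succ, pow_mul, pow_two]
  have hinv : g ^ E.k * x * (g ^ E.k)⁻¹ = x⁻¹ := by
    rw [hge]
    calc (g * g) ^ j * g * x * ((g * g) ^ j * g)⁻¹
        = (g * g) ^ j * (g * x * g⁻¹) * ((g * g) ^ j)⁻¹ := by group
      _ = x⁻¹ := by rw [htyx, (hg2.pow_left j).inv_right.eq, mul_inv_cancel_right]
  have hxN : x ∈ E.N := E.D_le_N b hx
  have hcomm : g ^ E.k * x * (g ^ E.k)⁻¹ * x⁻¹ ∈ E.A := by
    have h := E.mem_N_conj hxN (E.A.inv_mem hgk)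
    have := E.A.mul_mem hgk h
    simpa [mul_assoc] using this
  rw [hinv] at hcomm
  have hxx : x⁻¹ * x⁻¹ = 1 := E.D_inf_A hb _ ((E.D b).mul_mem ((E.D b).inv_mem hx) ((E.D b).inv_mem hx)) hcomm
  exact hx1 (E.D_ne_inv hb hx (by rw [← inv_inj, mul_inv_rev, inv_one]; exact hxx))

theorem two_fix {b c : G ⧸ E.N} (hb : b ≠ E.pt) (hc : c ≠ E.pt) {x : G} (hx : x ∈ E.D b)
    (hx1 : x ≠ 1) (hxc : x • c = c) : b = c := by
  have hxc' : x ∈ E.D c := E.mem_D.2 ⟨hx.1, hxc⟩
  have hD : ∀ d ∈ E.D b, d ∈ E.D c := fun d hd => E.centralizer_D hc hxc' hx1 (E.D_comm hb hd hx)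
  obtain ⟨s, hs⟩ := E.exists_swap hb
  obtain ⟨t, ht⟩ := E.exists_swap hc
  have h1 := E.inverts hb hs hx
  have h2 := E.inverts hc ht hxc'
  have hst : Commute (s⁻¹ * t) x := by
    refine mul_inv_eq_iff_eq_mul.1 ?_
    calc (s⁻¹ * t) * x * (s⁻¹ * t)⁻¹ = s⁻¹ * (t * x * t⁻¹) * s := by group
      _ = s⁻¹ * (s * x * s⁻¹) * s := by rw [h2, h1]
      _ = x := by group
  have := (E.centralizer_D hb hx hx1 hst).1
  have h3 : (s⁻¹ * t) • E.pt = E.pt := this
  rw [mul_smul, ht.2, inv_smul_eq_iff, hs.2] at h3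
  exact h3.symm

theorem exists_ne_pt : ∃ b : G ⧸ E.N, b ≠ E.pt := by
  by_contra h
  push Not at h
  exact E.N_ne_top (eq_top_iff.2 fun g _ => E.stab_pt.1 (h _))

theorem card_Ω : Nat.card (G ⧸ E.N) = Nat.card E.A + 1 ∧
    ∀ b c : G ⧸ E.N, b ≠ E.pt → c ≠ E.pt → ∃ x ∈ E.A, x • b = c := by
  classical
  have := Fintype.ofFinite G
  let X := {b : G ⧸ E.N // b ≠ E.pt}
  have hX : Nat.card (G ⧸ E.N) = Nat.card X + 1 := by
    rw [Nat.card_eq_fintype_card, Nat.card_eq_fintype_card, Fintype.card_subtype_compl,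
      Fintype.card_subtype_eq]
    have : 0 < Fintype.card (G ⧸ E.N) := Fintype.card_pos
    omega
  have hk := E.two_le_k
  have hinj : ∀ b : X, Function.Injective (fun x : E.A => (⟨(x : G) • b.1, fun h => b.2
      (smul_left_cancel (x : G) (h.trans (E.stab_pt.2 (E.A_le_N x.2)).symm))⟩ : X)) := by
    intro b x y hxy
    have h : (x : G) • b.1 = (y : G) • b.1 := congrArg Subtype.val hxy
    by_contra hne
    refine b.2 (E.A_semiregular (y⁻¹ * x : E.A).2 (fun e => hne ?_) (c := b.1) ?_)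
    · exact (inv_mul_eq_one.1 (Subtype.ext e)).symm
    · rw [Subgroup.coe_mul, Subgroup.coe_inv, mul_smul, h, inv_smul_smul]
  -- the sets `D b ∖ 1` are disjoint subsets of `N ∖ A`
  let Y := Σ b : X, {x : E.D b.1 // x ≠ 1}
  let Z := {g : E.N // g ∉ E.A.subgroupOf E.N}
  let ψ : Y → Z := fun p => ⟨⟨p.2.1, E.D_le_N _ p.2.1.2⟩, fun h =>
    p.2.2 (Subtype.ext (E.D_inf_A p.1.2 _ p.2.1.2 h))⟩
  have hψ : Function.Injective ψ := by
    rintro ⟨b, x⟩ ⟨c, y⟩ hxy
    have h : (x.1 : G) = y.1 := congrArg (fun w : Z => ((w.1 : E.N) : G)) hxy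
    have hbc : b = c := Subtype.ext (E.two_fix b.2 c.2 x.1.2
      (fun e => x.2 (Subtype.ext e)) (by rw [h]; exact y.1.2.2))
    subst hbc
    exact congrArg (Sigma.mk b) (Subtype.ext (Subtype.ext h))
  have hY : Nat.card Y = Nat.card X * (E.k - 1) := by
    rw [Nat.card_sigma, Finset.sum_const_nat (m := E.k - 1)]
    · rw [Finset.card_univ, Nat.card_eq_fintype_card]
    · intro b _
      rw [Nat.card_eq_fintype_card, Fintype.card_subtype_compl, Fintype.card_subtype_eq,
        ← Nat.card_eq_fintype_card, E.card_D b.2]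
  have hZ : Nat.card Z = Nat.card E.A * (E.k - 1) := by
    have h1 : Nat.card E.N = E.k * Nat.card E.A := by
      rw [← E.relIndex_A, ← Nat.card_congr (Subgroup.subgroupOfEquivOfLe E.A_le_N).toEquiv]
      exact (Subgroup.index_mul_card _).symm
    have h2 : Nat.card Z = Nat.card E.N - Nat.card (E.A.subgroupOf E.N) := by
      rw [Nat.card_eq_fintype_card, Fintype.card_subtype_compl, Nat.card_eq_fintype_card,
        Nat.card_eq_fintype_card]
    rw [h2, h1, Nat.card_congr (Subgroup.subgroupOfEquivOfLe E.A_le_N).toEquiv, Nat.mul_sub, mul_one,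
      mul_comm]
  have h1 : Nat.card X ≤ Nat.card E.A := by
    have := Nat.card_le_card_of_injective ψ hψ
    rw [hY, hZ] at this
    exact Nat.le_of_mul_le_mul_right this (by omega)
  obtain ⟨b₀, hb₀⟩ := E.exists_ne_pt
  have h2 : Nat.card E.A ≤ Nat.card X := Nat.card_le_card_of_injective _ (hinj ⟨b₀, hb₀⟩)
  refine ⟨by omega, fun b c hb hc => ?_⟩
  have hb' : Function.Bijective _ :=
    (Nat.bijective_iff_injective_and_card _).2 ⟨hinj ⟨b, hb⟩, (le_antisymm h2 h1 : Nat.card E.A = Nat.card X)⟩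
  obtain ⟨x, hx⟩ := hb'.2 ⟨c, hc⟩
  exact ⟨x, x.2, congrArg Subtype.val hx⟩

end Setup

end Cfsg.Agent.CentralizerTI
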