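import Cfsg.Agent.Lib.CentralizerTI.Setup
import Cfsg.Agent.Lib.CAEven.Classify
import Cfsg.Agent.Lib.SuzukiZass.Main
import Cfsg.Agent.Lib.CN.Maximal
import Cfsg.Agent.Lib.CN.Odd
import Cfsg.Agent.Lib.Frobenius.Kernel
import Cfsg.Agent.EqLemmas

/-
Simple groups in which every centralizer is TI.

* `exists_setup`
* `Setup.comm` : the centralizer of an involution is abelian
* `Setup.classify` : the group is `PSL₂(2^f)`
* `Setup.exists_frame` : an automorphism can be corrected to fix two non-commuting involutions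
-/

set_option autoImplicit false

open MulAction Matrix

namespace Cfsg.Agent.CentralizerTI

open CAEven (inv_conj conj_or_common)

local notation "Inv" => CAEven.Inv

variable {G : Type*} [Group G] [Finite G]

namespace Setup

variable (E : Setup G)

theorem pretransitive2 : IsMultiplyPretransitive G (G ⧸ E.N) 2 := by
  refine MulAction.is_two_pretransitive_iff.2 ?_
  intro a b c d hab hcd
  have key : ∀ x y : G ⧸ E.N, x ≠ y → ∀ b₀ : G ⧸ E.N, b₀ ≠ E.pt →
      ∃ g : G, g • E.pt = x ∧ g • b₀ = y := by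
    intro x y hxy b₀ hb₀
    obtain ⟨g, rfl⟩ := E.exists_smul_pt x
    have hy : g⁻¹ • y ≠ E.pt := fun h => hxy (inv_smul_eq_iff.1 h).symm
    obtain ⟨u, hu, huy⟩ := E.card_Ω.2 b₀ (g⁻¹ • y) hb₀ hy
    exact ⟨g * u, by rw [mul_smul, E.stab_pt.2 (E.A_le_N hu)],
      by rw [mul_smul, huy, smul_inv_smul]⟩
  obtain ⟨b₀, hb₀⟩ := E.exists_ne_pt
  obtain ⟨g, rfl, rfl⟩ := key a b hab b₀ hb₀
  obtain ⟨h, rfl, rfl⟩ := key c d hcd b₀ hb₀
  exact ⟨h * g⁻¹, by rw [mul_smul, inv_smul_smul], by rw [mul_smul, inv_smul_smul]⟩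

theorem toPerm_injective : Function.Injective (MulAction.toPermHom G (G ⧸ E.N)) := by
  rcases E.eq_bot_or_top (H := (MulAction.toPermHom G (G ⧸ E.N)).ker) inferInstance with h | h
  · exact (MonoidHom.ker_eq_bot_iff _).1 h
  · refine absurd (eq_top_iff.2 fun g _ => E.stab_pt.1 ?_) E.N_ne_top
    have hg : MulAction.toPermHom G (G ⧸ E.N) g = 1 :=
      MonoidHom.mem_ker.1 (h ▸ Subgroup.mem_top g)
    exact Equiv.congr_fun hg E.pt

theorem faithful : FaithfulSMul G (G ⧸ E.N) :=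
  ⟨fun {_ _} h => E.toPerm_injective (Equiv.ext h)⟩

theorem zassenhaus : Cfsg.IsZassenhausGroup G (G ⧸ E.N) := by
  refine ⟨E.faithful, E.pretransitive2, ?_, ?_, ?_⟩
  · intro g a b c hab hbc hac ha hb hc
    obtain ⟨h, rfl⟩ := E.exists_smul_pt a
    by_contra hg
    have hfix : ∀ w : G ⧸ E.N, g • w = w → (h⁻¹ * g * h) • (h⁻¹ • w) = h⁻¹ • w := fun w hw => by
      rw [mul_smul, mul_smul, smul_inv_smul, hw]
    have h1 : (h⁻¹ * g * h) • E.pt = E.pt := by rw [mul_smul, mul_smul, ha, inv_smul_smul]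
    have hb' : h⁻¹ • b ≠ E.pt := fun e => hab (inv_smul_eq_iff.1 e).symm
    have hc' : h⁻¹ • c ≠ E.pt := fun e => hac (inv_smul_eq_iff.1 e).symm
    exact hbc (smul_left_cancel h⁻¹ (E.two_fix hb' hc' (E.mem_D.2 ⟨h1, hfix b hb⟩)
      (fun e => hg (by
        have : g = h * (h⁻¹ * g * h) * h⁻¹ := by group
        rw [this, e, mul_one, mul_inv_cancel]))
      (hfix c hc)))
  · obtain ⟨b, hb⟩ := E.exists_ne_pt
    haveI : Nontrivial (E.D b) := Finite.one_lt_card_iff_nontrivial.1 (by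
      rw [E.card_D hb]; exact E.two_le_k)
    obtain ⟨x, hx⟩ := exists_ne (1 : E.D b)
    exact ⟨x, fun e => hx (Subtype.ext e), E.pt, b, hb.symm, x.2.1, x.2.2⟩
  · intro M hM hpre
    rcases E.eq_bot_or_top hM with rfl | rfl
    · exfalso
      obtain ⟨b, hb⟩ := E.exists_ne_pt
      obtain ⟨g, hg⟩ := hpre.exists_smul_eq E.pt b
      rw [Subgroup.smul_def, Subgroup.mem_bot.1 g.2, one_smul] at hg
      exact hb hg.symm
    · refine ⟨E.pt, fun h => E.z_inv.1 ?_⟩
      let z' : (⊤ : Subgroup G) := ⟨E.z, Subgroup.mem_top _⟩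
      have h1 : z' ∈ MulAction.stabilizer (⊤ : Subgroup G) E.pt := E.stab_pt.2 (E.A_le_N E.z_mem)
      exact congrArg Subtype.val (Subgroup.mem_bot.1 (SetLike.le_def.1 h.le h1))

theorem odd_k : Odd E.k := by
  obtain ⟨b, hb⟩ := E.exists_ne_pt
  rw [← E.card_D hb]
  by_contra hev
  rw [Nat.not_odd_iff_even, even_iff_two_dvd] at hev
  haveI : Fact (Nat.Prime 2) := ⟨Nat.prime_two⟩
  obtain ⟨d, hd⟩ := exists_prime_orderOf_dvd_card' 2 hev
  have hd2 := pow_orderOf_eq_one d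
  rw [hd, pow_two] at hd2
  have := E.D_ne_inv hb d.2 (congrArg Subtype.val hd2)
  rw [← Subgroup.orderOf_coe, this, orderOf_one] at hd
  omega

/-- A kernel whose element centralizers are TI is abelian. -/
theorem suzuki_false {Ω : Type*} [MulAction G Ω] [Finite Ω] [IsSimpleGroup G] (h : CTI G)
    (S : SuzukiZass.Setup G Ω) : False := by
  obtain ⟨n, -, hn1, hq, hh⟩ := S.structure_main
  have hq2 : 2 ≤ S.q := hq ▸ Nat.le_self_pow (by omega) 2
  obtain ⟨u, hu, huZ⟩ : ∃ u ∈ S.U, u ∉ S.Z := by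
    by_contra hcon
    push Not at hcon
    have h1 := Subgroup.card_le_of_le (show S.U ≤ S.Z from hcon)
    rw [S.card_Z, show Nat.card S.U = S.q ^ 2 from hh] at h1
    nlinarith
  have hu1 : u ≠ 1 := fun e => huZ (e ▸ one_mem _)
  have huu : u * u ≠ 1 := fun e => huZ (S.mem_Z.2 ⟨hu, e⟩)
  set C := Subgroup.centralizer ({u} : Set G) with hC
  have hZC : S.Z ≤ C := fun w hw => Subgroup.mem_centralizer_singleton_iff.2 (S.Z_central hw hu).symm
  have hCU : C ≤ S.U := fun c hc => S.mem_U_of_commute hu hu1 (Subgroup.mem_centralizer_singleton_iff.1 hc)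
  let B : Subgroup G := Subgroup.centralizer (C : Set G) ⊓ S.U
  have huC : u ∈ C := Subgroup.mem_centralizer_singleton_iff.2 rfl
  have hBC : B ≤ C := fun x hx =>
    Subgroup.mem_centralizer_singleton_iff.2 (Subgroup.mem_centralizer_iff.1 hx.1 u huC).symm
  have hBcomm : ∀ x ∈ B, ∀ y ∈ B, x * y = y * x := fun x hx y hy =>
    Subgroup.mem_centralizer_iff.1 hy.1 x (hBC hx)
  have huB : u ∈ B := ⟨Subgroup.mem_centralizer_iff.2 fun c hc => Subgroup.mem_centralizer_singleton_iff.1 hc, hu⟩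
  have hZB : S.Z ≤ B := fun w hw =>
    ⟨Subgroup.mem_centralizer_iff.2 fun c hc => S.Z_central hw (hCU hc), S.Z_le hw⟩
  have hEN : ∀ k ∈ S.E, k ∈ Subgroup.normalizer (C : Set G) := by
    intro k hk
    by_contra hkN
    have hz0 : u * u ∈ S.Z := S.sq_mem hu
    refine huu (h u k hkN _ (hZC hz0) (hZC (S.mem_Z.2 ⟨S.hUn k hk.1 _ (S.Z_le hz0), ?_⟩)))
    rw [_root_.conj_mul, (S.mem_Z.1 hz0).2, mul_one, mul_inv_cancel]
  let sq : B →* G := MonoidHom.mk' (fun x => (x : G) * x) fun x y => by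
    show ((x : G) * y) * (x * y) = (x : G) * x * (y * y)
    exact (show Commute (y : G) x from hBcomm _ y.2 _ x.2).mul_mul_mul_comm _ _
  have hker : S.q ≤ Nat.card sq.ker := by
    rw [← S.card_Z]
    refine Nat.card_le_card_of_injective (fun w : S.Z => (⟨⟨w, hZB w.2⟩,
      MonoidHom.mem_ker.2 (S.mem_Z.1 w.2).2⟩ : sq.ker)) fun w w' e => Subtype.ext ?_
    exact congrArg (fun v : sq.ker => ((v : B) : G)) e
  have hran : S.q ≤ Nat.card sq.range := by
    rw [← S.card_Z]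
    refine Subgroup.card_le_of_le fun w hw => ?_
    by_cases hw1 : w = 1
    · subst hw1; exact one_mem _
    obtain ⟨k, hk, hkw⟩ := S.Z_trans (S.sq_mem hu) huu hw hw1
    refine ⟨⟨k * u * k⁻¹, Subgroup.mem_centralizer_iff.2 fun c hc => ?_, S.hUn k hk.1 u hu⟩, ?_⟩
    · have hc' : k⁻¹ * c * k ∈ C := by
        simpa using (Subgroup.mem_normalizer_iff.1 (inv_mem (hEN k hk)) c).1 hc
      have h1 := Subgroup.mem_centralizer_singleton_iff.1 hc'
      calc c * (k * u * k⁻¹) = k * ((k⁻¹ * c * k) * u) * k⁻¹ := by group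
        _ = k * (u * (k⁻¹ * c * k)) * k⁻¹ := by rw [h1]
        _ = k * u * k⁻¹ * c := by group
    · show k * u * k⁻¹ * (k * u * k⁻¹) = w
      rw [_root_.conj_mul, hkw]
  have hcard : Nat.card B = Nat.card sq.ker * Nat.card sq.range := by
    rw [← Subgroup.index_ker, Subgroup.card_mul_index]
  have hBU : B = S.U := Subgroup.eq_of_le_of_card_ge inf_le_right (by
    rw [show Nat.card S.U = S.q ^ 2 from hh, hcard, pow_two]
    exact Nat.mul_le_mul hker hran)
  obtain ⟨x, hx, y, hy, hxy⟩ := S.hna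
  exact hxy (hBcomm x (hBU ▸ hx) y (hBU ▸ hy))

theorem comm (h : CTI G) : ∀ u ∈ E.A, ∀ v ∈ E.A, u * v = v * u := by
  classical
  have := Fintype.ofFinite (G ⧸ E.N)
  have := Fintype.ofFinite G
  haveI := E.simple
  have hZ := E.zassenhaus
  obtain ⟨b, hb⟩ := E.exists_ne_pt
  have hn := E.card_Ω.1
  have hHa : E.A ≤ stabilizer G E.pt := fun x hx => E.stab_pt.2 (E.A_le_N hx)
  have hHn : ∀ t ∈ stabilizer G E.pt, ∀ u ∈ E.A, t * u * t⁻¹ ∈ E.A :=
    fun t ht u hu => E.mem_N_conj (E.stab_pt.1 ht) hu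
  have hfix : ∀ u ∈ E.A, u ≠ 1 → ∀ c : G ⧸ E.N, u • c = c → c = E.pt :=
    fun u hu hu1 c hc => E.A_semiregular hu hu1 hc
  have hd : Nat.card ↥(stabilizer G E.pt ⊓ stabilizer G b) = E.k := E.card_D hb
  rcases Zassenhaus.simple_feit hZ hb.symm (Nat.card E.A) E.k
      (by rw [← Nat.card_eq_fintype_card]; exact hn) hd E.odd_k E.A hHa
      (by rw [← Nat.card_eq_fintype_card]; exact hn.symm) hfix with hle | ⟨h2, ⟨u, v, huv⟩, -⟩
  · exact Zassenhaus.kernel_abelian hZ hb.symm (by rw [hd, hn]; omega) E.A hHa hHn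
      (by rw [hn]; omega) hfix
  · exact (suzuki_false h (⟨hZ, E.pt, b, hb.symm, E.A, hHa, hHn, by rw [hn]; omega, hfix, h2,
      ⟨u, u.2, v, v.2, fun e => huv (Subtype.ext e)⟩⟩ : SuzukiZass.Setup G (G ⧸ E.N))).elim

/-- The elements of `A` squaring to one. -/
def W : Subgroup G where
  carrier := {t | t ∈ E.A ∧ t * t = 1}
  one_mem' := ⟨E.A.one_mem, mul_one 1⟩
  mul_mem' := fun {s t} hs ht => ⟨E.A.mul_mem hs.1 ht.1, by
    by_cases hs1 : s = 1
    · rw [hs1, one_mul, ht.2]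
    have hc : Commute t s := E.invs_central ⟨hs.1, hs1, hs.2⟩ ht.1
    rw [hc.mul_mul_mul_comm, hs.2, ht.2, mul_one]⟩
  inv_mem' := fun {t} ht => ⟨E.A.inv_mem ht.1, by rw [← _root_.mul_inv_rev, ht.2, inv_one]⟩

theorem card_W : Nat.card E.W = E.k + 1 := by
  have e : E.invs = (E.W : Set G) \ {1} := by
    ext t
    exact ⟨fun h => ⟨⟨h.1, h.2.2⟩, h.2.1⟩, fun h => ⟨h.1.1, h.2, h.1.2⟩⟩
  unfold k
  rw [Nat.card_coe_set_eq, e, Set.ncard_sdiff_singleton_add_one E.W.one_mem (Set.toFinite _),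
    ← Nat.card_coe_set_eq]
  rfl

theorem classify_of_comm (hcomm : ∀ u ∈ E.A, ∀ v ∈ E.A, u * v = v * u) : (∀ a ∈ E.A, a * a = 1) ∧
    ∃ (F : Type) (_ : Field F) (_ : Fintype F) (f : ℕ), 2 ≤ f ∧
      Fintype.card F = 2 ^ f ∧ Nonempty (G ≃* Matrix.ProjectiveSpecialLinearGroup (Fin 2) F) := by
  classical
  have := Fintype.ofFinite (G ⧸ E.N)
  have hZ := E.zassenhaus
  obtain ⟨b, hb⟩ := E.exists_ne_pt
  have hd : Nat.card ↥(stabilizer G E.pt ⊓ stabilizer G b) = E.k := E.card_D hb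
  have hn := E.card_Ω.1
  have hbound := Zassenhaus.abelian_bound hZ hb.symm E.A
    (fun x hx => E.stab_pt.2 (E.A_le_N hx)) (by rw [← Nat.card_eq_fintype_card]; exact hn.symm)
    (fun u hu hu1 c hc => E.A_semiregular hu hu1 hc) (fun u hu w hw => (hcomm u hu w hw))
  rw [hd, ← Nat.card_eq_fintype_card, hn] at hbound
  have hWA : E.W ≤ E.A := fun x hx => hx.1
  have hk2 := E.two_le_k
  obtain ⟨j, hj⟩ := Subgroup.card_dvd_of_le hWA
  rw [E.card_W] at hj
  have hj1 : j = 1 := by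
    rcases j with _ | _ | j
    · rw [mul_zero] at hj
      exact absurd hj Nat.card_pos.ne'
    · rfl
    · rw [hj] at hbound
      nlinarith [show E.k + 1 + (E.k + 1) ≤ (E.k + 1) * (j + 1 + 1) by nlinarith,
        show (E.k + 1) * (j + 1 + 1) ≤ 2 * E.k + 1 by omega]
  rw [hj1, mul_one] at hj
  have hW : E.W = E.A := Subgroup.eq_of_le_of_card_ge hWA (by rw [E.card_W, hj])
  haveI : Fact (Nat.Prime 2) := ⟨Nat.prime_two⟩
  obtain ⟨f, hf⟩ := IsPGroup.iff_card.1 (show IsPGroup 2 E.A from fun x =>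
    ⟨1, Subtype.ext (by rw [pow_one, Subgroup.coe_pow, pow_two]; exact (hW.ge x.2).2)⟩)
  have hf2 : 2 ≤ f := by
    rcases f with _ | _ | f
    · rw [pow_zero] at hf; omega
    · rw [zero_add, pow_one] at hf; omega
    · omega
  obtain ⟨h3, hsharp⟩ := Zassenhaus.sharply_three_of_card hZ hb.symm (by rw [hd, hn]; omega)
  let φ := MulAction.toPermHom G (G ⧸ E.N)
  have h3' : IsMultiplyPretransitive φ.range (G ⧸ E.N) 3 := by
    refine ⟨fun x y => ?_⟩
    obtain ⟨g, hg⟩ := h3.exists_smul_eq x y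
    refine ⟨⟨φ g, g, rfl⟩, ?_⟩
    rw [← hg]
    rfl
  have hsharp' : ∀ x : Fin 3 ↪ (G ⧸ E.N), MulAction.stabilizer φ.range x = ⊥ := by
    intro x
    rw [Subgroup.eq_bot_iff_forall]
    rintro ⟨_, g, rfl⟩ hg
    have h : g ∈ MulAction.stabilizer G x := hg
    rw [hsharp x, Subgroup.mem_bot] at h
    exact Subtype.ext (show φ g = 1 by rw [h, map_one])
  obtain ⟨F, iF, iFt, hF, ⟨e⟩⟩ := S0727.result (f := f) (by omega)
    (by rw [← Nat.card_eq_fintype_card, hn, hf]) φ.range h3' hsharp'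
  refine ⟨fun a ha => (hW.ge ha).2, F, iF, iFt, f, hf2, hF, ⟨?_⟩⟩
  have hchar : ringChar F = 2 := FiniteField.even_card_iff_char_two.2 (by
    rw [hF, Nat.pow_mod, Nat.mod_self, zero_pow (by omega), Nat.zero_mod])
  have hsurj : Function.Surjective
      (ProjectiveSpecialLinearGroup.toPGL : ProjectiveSpecialLinearGroup (Fin 2) F →* _) := by
    intro x
    obtain ⟨u, rfl⟩ := ProjGenLinGroup.mk_surjective x
    exact (PSL2.mk_mem_range_iff u).2 (FiniteField.isSquare_of_char_two hchar _)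
  exact ((MonoidHom.ofInjective E.toPerm_injective).trans e).trans
    (MulEquiv.ofBijective _ ⟨ProjectiveSpecialLinearGroup.toPGL_injective, hsurj⟩).symm

theorem classify (h : CTI G) : (∀ a ∈ E.A, a * a = 1) ∧
    ∃ (F : Type) (_ : Field F) (_ : Fintype F) (f : ℕ), 2 ≤ f ∧
      Fintype.card F = 2 ^ f ∧ Nonempty (G ≃* Matrix.ProjectiveSpecialLinearGroup (Fin 2) F) :=
  E.classify_of_comm (E.comm h)

theorem exists_frame (hsq : ∀ a ∈ E.A, a * a = 1) (ψ : MulAut G) :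
    ∃ n t : G, n * ψ E.z * n⁻¹ = E.z ∧ n * ψ t * n⁻¹ = t ∧ Inv t ∧ t ∉ E.A := by
  -- first fix the involution
  have hψz : Inv (ψ E.z) := ⟨fun e => E.z_inv.1 (by simpa using congrArg ψ.symm e),
    by rw [← map_mul, E.z_inv.2, map_one]⟩
  obtain ⟨g, hg⟩ := E.exists_conj_z hψz
  let φ : MulAut G := MulAut.conj g⁻¹ * ψ
  have hφ : ∀ x, φ x = g⁻¹ * ψ x * g := fun x => by simp [φ]
  have hφz : φ E.z = E.z := by rw [hφ, ← hg]; group
  have hφA : ∀ (φ : MulAut G), φ E.z = E.z → ∀ x, φ x ∈ E.A ↔ x ∈ E.A := by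
    intro φ hφ x
    rw [E.mem_A, E.mem_A]
    exact ⟨fun h => φ.injective (show φ (x * E.z) = φ (E.z * x) by rw [map_mul, map_mul, hφ]; exact h),
      fun h => by
        have := h.map φ.toMonoidHom
        simpa [hφ] using this⟩
  have hφN : ∀ (φ : MulAut G), φ E.z = E.z → ∀ x, φ x ∈ E.N ↔ x ∈ E.N := by
    intro φ hφ x
    rw [Subgroup.mem_normalizer_iff, Subgroup.mem_normalizer_iff]
    refine ⟨fun h y => ?_, fun h y => ?_⟩
    · have h1 := h (φ y)
      rwa [← map_inv, ← map_mul, ← map_mul, hφA φ hφ, hφA φ hφ] at h1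
    · obtain ⟨y, rfl⟩ := φ.surjective y
      rw [← map_inv, ← map_mul, ← map_mul, hφA φ hφ, hφA φ hφ]
      exact h y
  have hpt : ∀ (φ : MulAut G), φ E.z = E.z → ∀ x y : G,
      (φ x • E.pt = φ y • E.pt ↔ x • E.pt = y • E.pt) := by
    intro φ hφ x y
    rw [E.smul_pt, E.smul_pt, E.smul_pt, E.smul_pt, QuotientGroup.eq, QuotientGroup.eq, ← map_inv,
      ← map_mul, hφN φ hφ]
  -- now move a second point back
  obtain ⟨b, hb⟩ := E.exists_ne_pt
  obtain ⟨g₀, rfl⟩ := E.exists_smul_pt b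
  have hb' : φ g₀ • E.pt ≠ E.pt := fun e => by
    refine hb ?_
    have := (hpt φ hφz g₀ 1).1 (by rw [map_one, one_smul]; exact e)
    rwa [one_smul] at this
  obtain ⟨a, ha, hab⟩ := E.card_Ω.2 _ _ hb' hb
  let χ : MulAut G := MulAut.conj a * φ
  have hχ : ∀ x, χ x = a * φ x * a⁻¹ := fun x => by simp [χ]
  have hχz : χ E.z = E.z := by rw [hχ, hφz, (E.mem_A.1 ha).eq, mul_inv_cancel_right]
  have hχb : χ g₀ • E.pt = g₀ • E.pt := by
    rw [hχ, mul_smul, mul_smul, E.stab_pt.2 (E.A_le_N (inv_mem ha)), hab]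
  -- the involution carrying `pt` to `g₀ • pt` and fixing `z g₀ • pt`
  set h := E.z * g₀ with hh
  have hhb : h • E.pt ≠ g₀ • E.pt := fun e => hb (E.A_semiregular E.z_mem E.z_inv.1 (by
    rwa [hh, mul_smul] at e))
  have hhp : h • E.pt ≠ E.pt := fun e => hb (by
    rw [hh, mul_smul] at e
    have h2 := congrArg (E.z • ·) e
    simp only [← mul_smul, ← mul_assoc, E.z_inv.2, one_mul] at h2
    rw [E.stab_pt.2 (E.A_le_N E.z_mem)] at h2
    exact h2)
  have hne1 : h⁻¹ • E.pt ≠ E.pt := fun e => hhp (inv_smul_eq_iff.1 e).symm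
  have hne2 : h⁻¹ • (g₀ • E.pt) ≠ E.pt := fun e => hhb (inv_smul_eq_iff.1 e).symm
  obtain ⟨a', ha', hab'⟩ := E.card_Ω.2 _ _ hne1 hne2
  have ha1 : a' ≠ 1 := fun e => hb (by
    rw [e, one_smul] at hab'
    exact (smul_left_cancel h⁻¹ hab').symm)
  set t := h * a' * h⁻¹ with ht
  have htinv : Inv t := inv_conj ⟨ha1, hsq a' ha'⟩ h
  have htb : t • E.pt = g₀ • E.pt := by rw [ht, mul_smul, mul_smul, hab', smul_inv_smul]
  have htA : t ∉ E.A := fun e => hb (by rw [← htb, E.stab_pt.2 (E.A_le_N e)])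
  -- uniqueness
  have hχh : χ h • E.pt = h • E.pt := by
    rw [hh, map_mul, hχz, mul_smul, hχb, mul_smul]
  have ht'b : χ t • E.pt = g₀ • E.pt :=
    ((hpt χ hχz t g₀).2 htb).trans hχb
  have ht'h : h⁻¹ * χ t * h ∈ E.N := by
    refine E.stab_pt.1 ?_
    rw [mul_smul, mul_smul, inv_smul_eq_iff]
    have h1 : χ (t * h) • E.pt = χ h • E.pt := (hpt χ hχz _ _).2 (by
      rw [ht, inv_mul_cancel_right, mul_smul, E.stab_pt.2 (E.A_le_N ha')])
    rwa [map_mul, mul_smul, hχh] at h1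
  have ht'inv : Inv (χ t) := ⟨fun e => htinv.1 (by simpa using congrArg χ.symm e),
    by rw [← map_mul, htinv.2, map_one]⟩
  have ha'' : h⁻¹ * χ t * h ∈ E.A := E.inv_mem_A (by simpa using inv_conj ht'inv h⁻¹) ht'h
  have heq : h⁻¹ * χ t * h = a' := by
    by_contra hne
    refine hne1 (E.A_semiregular (mul_mem (inv_mem ha') ha'') (fun e => hne (inv_mul_eq_one.1 e).symm) ?_)
    rw [mul_smul, show (h⁻¹ * χ t * h) • (h⁻¹ • E.pt) = h⁻¹ • (χ t • E.pt) by
      rw [← mul_smul, ← mul_smul]; congr 1; group, ht'b, inv_smul_eq_iff]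
    exact hab'.symm
  refine ⟨a * g⁻¹, t, ?_, ?_, htinv, htA⟩
  · calc a * g⁻¹ * ψ E.z * (a * g⁻¹)⁻¹ = χ E.z := by rw [hχ, hφ]; group
      _ = E.z := hχz
  · calc a * g⁻¹ * ψ t * (a * g⁻¹)⁻¹ = χ t := by rw [hχ, hφ]; group
      _ = h * (h⁻¹ * χ t * h) * h⁻¹ := by group
      _ = t := by rw [heq]

end Setup

/-- A non-nilpotent simple group of even order with all centralizers TI has a `Setup`. -/
theorem exists_setup [IsSimpleGroup G] (h : CTI G) (hnn : ¬ Group.IsNilpotent G)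
    (heven : 2 ∣ Nat.card G) : Nonempty (Setup G) := by
  haveI : Fact (Nat.Prime 2) := ⟨Nat.prime_two⟩
  have hCN := h.isCN
  obtain ⟨S⟩ := (inferInstance : Nonempty (Sylow 2 G))
  have h2 : 2 ∣ Nat.card (S : Subgroup G) := S.dvd_card_of_dvd_card heven
  haveI : Nontrivial (S : Subgroup G) := Finite.one_lt_card_iff_nontrivial.1
    (lt_of_lt_of_le one_lt_two (Nat.le_of_dvd Nat.card_pos h2))
  haveI := S.2.center_nontrivial
  have h2c : 2 ∣ Nat.card (Subgroup.center (S : Subgroup G)) := by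
    obtain ⟨n, hn⟩ := IsPGroup.iff_card.1 (S.2.to_subgroup (Subgroup.center (S : Subgroup G)))
    have h1 := Finite.one_lt_card (α := Subgroup.center (S : Subgroup G))
    rw [hn] at h1 ⊢
    exact dvd_pow_self 2 (by rintro rfl; simp at h1)
  obtain ⟨z₀, hz₀⟩ := exists_prime_orderOf_dvd_card' 2 h2c
  set z : G := ((z₀ : (S : Subgroup G)) : G) with hzdef
  have hz' : orderOf z = 2 := by rw [hzdef, Subgroup.orderOf_coe, Subgroup.orderOf_coe, hz₀]
  have hzS : z ∈ (S : Subgroup G) := (z₀ : (S : Subgroup G)).2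
  have hz1 : z ≠ 1 := fun e => by rw [e, orderOf_one] at hz'; omega
  have hzz : z * z = 1 := by
    have := pow_orderOf_eq_one z
    rwa [hz', pow_two] at this
  have hzc : ∀ s ∈ (S : Subgroup G), Commute s z := fun s hs =>
    congrArg Subtype.val (Subgroup.mem_center_iff.1 z₀.2 ⟨s, hs⟩)
  set A := Subgroup.centralizer ({z} : Set G) with hA
  have hSA : (S : Subgroup G) ≤ A := fun s hs => Subgroup.mem_centralizer_singleton_iff.2 (hzc s hs).eq
  have hzA : z ∈ A := Subgroup.mem_centralizer_singleton_iff.2 rfl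
  have hAmax : CN.IsMaxNilpotent A := by
    refine ⟨hCN z hz1, fun L hL hAL => le_antisymm ?_ hAL⟩
    have : (A.subgroupOf L) = ⊤ := by
      refine Subgroup.index_eq_one.1 ?_
      by_contra hi
      obtain ⟨q, hq, hqd⟩ := Nat.exists_prime_and_dvd hi
      haveI : Fact q.Prime := ⟨hq⟩
      obtain ⟨Q⟩ := (inferInstance : Nonempty (Sylow q L))
      refine Q.not_dvd_index (hqd.trans (Subgroup.index_dvd_of_le fun x hx => ?_))
      obtain ⟨j, hj⟩ := IsPGroup.iff_orderOf.1 Q.isPGroup' ⟨x, hx⟩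
      rw [Subgroup.orderOf_mk] at hj
      refine Subgroup.mem_subgroupOf.2 ?_
      by_cases hq2 : q = 2
      · subst hq2
        exact hSA (CN.mem_sylow_of_orderOf hL S (hSA.trans hAL) x.2
          (k := j) (by rw [Subgroup.orderOf_coe, hj]))
      · haveI := hL
        have hc := CN.commute_of_isNilpotent (a := x) (b := (⟨z, hAL hzA⟩ : L)) (by
          rw [hj, Subgroup.orderOf_mk, hz']
          exact (((Nat.coprime_primes hq Nat.prime_two).2 hq2)).pow_left _)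
        exact Subgroup.mem_centralizer_singleton_iff.2 (congrArg Subtype.val hc.eq)
    exact Subgroup.subgroupOf_eq_top.1 this
  have hti : ∀ g : G, A.map (MulAut.conj g).toMonoidHom ≠ A →
      A ⊓ A.map (MulAut.conj g).toMonoidHom = ⊥ := by
    intro g hg
    by_cases hpp : IsPrimePow (Nat.card A)
    · obtain ⟨q, j, hq, hj, hqj⟩ := (isPrimePow_nat_iff _).1 hpp
      have hq2 : q = 2 := ((Nat.prime_dvd_prime_iff_eq Nat.prime_two hq).1
        (Nat.prime_two.dvd_of_dvd_pow (hqj ▸ h2.trans (Subgroup.card_dvd_of_le hSA)))).symm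
      subst hq2
      have hAS : A = (S : Subgroup G) := S.3 (IsPGroup.of_card hqj.symm) hSA
      rw [hAS] at hg ⊢
      exact S4066.result h S (g • S) fun e => hg (congrArg (fun P : Sylow 2 G => (P : Subgroup G)) e).symm
    · exact CN.ti_of_not_isPrimePow hCN hAmax hpp hg
  have hAtop : A ≠ ⊤ := fun e => hnn (@Group.nilpotent_of_mulEquiv _ _ _ _ (e ▸ hAmax.1) (Subgroup.topEquiv (G := G)))
  have hcl := fun x hx hx1 => CN.centralizer_le_of_ti hCN hAmax hti (x := x) hx hx1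
  have htiN : ∀ x ∈ A, x ≠ 1 → ∀ g : G, g * x * g⁻¹ ∈ A → g ∈ Subgroup.normalizer (A : Set G) := by
    intro x hx hx1 g hgx
    by_contra hgN
    have h1 : g * x * g⁻¹ ∈ A ⊓ A.map (MulAut.conj g).toMonoidHom := ⟨hgx, ⟨x, hx, rfl⟩⟩
    rw [hti g (fun e => hgN (Subgroup.mem_normalizer_iff_map_conj_eq.2 e)), Subgroup.mem_bot] at h1
    exact hx1 (conj_eq_one_iff.1 h1)
  refine ⟨{ simple := inferInstance, z := z, z_inv := ⟨hz1, hzz⟩, A_ne_top := hAtop,
            cent_le := fun x hx hx1 g hg => hcl x hx hx1 (Subgroup.mem_centralizer_singleton_iff.2 hg.eq),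
            ti_field := htiN, hall_field := CN.maximal_coprime_index hCN hAmax,
            exists_outer := ?_ }⟩
  by_contra hcon
  push Not at hcon
  have hF : Cfsg.IsFrobeniusComplement A := by
    refine ⟨fun e => hz1 (Subgroup.mem_bot.1 (e ▸ hzA)), hAtop, fun g hg => ?_⟩
    exact hti g fun e => hg (hcon g (Subgroup.mem_normalizer_iff_map_conj_eq.2 e))
  have hc := Frobenius.frobKernel_isComplement hF
  haveI := Frobenius.frobKernel_normal hF
  rcases (Frobenius.frobKernel_normal hF).eq_bot_or_eq_top with hk | hk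
  · exact Frobenius.frobKernel_ne_bot hF hk
  · rw [hk, Subgroup.isComplement'_top_left] at hc
    exact hF.1 hc

end Cfsg.Agent.CentralizerTI
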